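import Cfsg.Agent.Lib.Helper6.TCD.O732a.P0
import Cfsg.Agent.Lib.Helper6.TCD.O732a.P1
import Cfsg.Agent.Lib.Helper6.TCD.O732a.P2
import Cfsg.Agent.Lib.Helper6.TCD.O732a.P3
import Cfsg.Agent.Lib.Helper6.TCD.O732a.P4
import Cfsg.Agent.Lib.Helper6.TCD.O732a.P5
import Cfsg.Agent.Lib.Helper6.TCD.O732a.P6
import Cfsg.Agent.Lib.Helper6.TCD.O732a.P7
import Cfsg.Agent.Lib.Helper6.TCD.O732a.P8
import Cfsg.Agent.Lib.Helper6.TCD.O732a.P9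
import Cfsg.Agent.Lib.Helper6.TCD.O732a.P10
import Cfsg.Agent.Lib.Helper6.TCD.O732a.P11
import Cfsg.Agent.Lib.Helper6.TCD.O732a.P12
import Cfsg.Agent.Lib.Helper6.TCD.O732a.P13
import Cfsg.Agent.Lib.Helper6.TCD.O732a.P14
import Cfsg.Agent.Lib.Helper6.TCD.O732a.P15
set_option autoImplicit false
namespace Cfsg.Agent.Lib.Helper6.TCD.O732a
def ncol : Nat := 16
def INV : Nat := 8526495043095935640
def N : Nat := 2240
noncomputable def px (c p : Nat) : Nat := Nat.rec (motive := fun _ => Nat) (P0 p) (fun k0 _ => Nat.rec (motive := fun _ => Nat) (P1 p) (fun k1 _ => Nat.rec (motive := fun _ => Nat) (P2 p) (fun k2 _ => Nat.rec (motive := fun _ => Nat) (P3 p) (fun k3 _ => Nat.rec (motive := fun _ => Nat) (P4 p) (fun k4 _ => Nat.rec (motive := fun _ => Nat) (P5 p) (fun k5 _ => Nat.rec (motive := fun _ => Nat) (P6 p) (fun k6 _ => Nat.rec (motive := fun _ =>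 Nat) (P7 p) (fun k7 _ => Nat.rec (motive := fun _ => Nat) (P8 p) (fun k8 _ => Nat.rec (motive := fun _ => Nat) (P9 p) (fun k9 _ => Nat.rec (motive := fun _ => Nat) (P10 p) (fun k10 _ => Nat.rec (motive := fun _ => Nat) (P11 p) (fun k11 _ => Nat.rec (motive := fun _ => Nat) (P12 p) (fun k12 _ => Nat.rec (motive := fun _ => Nat) (P13 p) (fun k13 _ => Nat.rec (motive := fun _ => Nat) (P14 p) (fun k14 _ => P15 p) k13) k12) k11) k10) k9) k8) k7) k6) k5) k4) k3) k2) k1) k0) c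
noncomputable def R8 (p : Nat) : Nat := P0 (P0 (P0 (P0 p)))
noncomputable def R9 (p : Nat) : Nat := P0 (P0 (P1 (P1 p)))
noncomputable def R10 (p : Nat) : Nat := P0 (P0 (P2 (P2 p)))
noncomputable def R11 (p : Nat) : Nat := P0 (P0 (P3 (P3 p)))
noncomputable def R12 (p : Nat) : Nat := P0 (P0 (P4 (P4 p)))
noncomputable def R13 (p : Nat) : Nat := P0 (P0 (P5 (P5 p)))
noncomputable def R14 (p : Nat) : Nat := P0 (P0 (P6 (P6 p)))
noncomputable def R15 (p : Nat) : Nat := P0 (P0 (P7 (P7 p)))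
noncomputable def R16 (p : Nat) : Nat := P1 (P0 (P1 (P0 (P1 (P0 p)))))
noncomputable def R17 (p : Nat) : Nat := P0 (P0 (P2 (P0 (P2 (P0 p)))))
noncomputable def R18 (p : Nat) : Nat := P0 (P0 (P3 (P0 (P3 (P0 p)))))
noncomputable def R19 (p : Nat) : Nat := P0 (P0 (P4 (P0 (P4 (P0 p)))))
noncomputable def R20 (p : Nat) : Nat := P0 (P0 (P5 (P0 (P5 (P0 p)))))
noncomputable def R21 (p : Nat) : Nat := P0 (P0 (P6 (P0 (P6 (P0 p)))))
noncomputable def R22 (p : Nat) : Nat := P0 (P0 (P7 (P0 (P7 (P0 p)))))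
noncomputable def R23 (p : Nat) : Nat := P2 (P1 (P2 (P1 (P2 (P1 p)))))
noncomputable def R24 (p : Nat) : Nat := P0 (P0 (P3 (P1 (P3 (P1 p)))))
noncomputable def R25 (p : Nat) : Nat := P0 (P0 (P4 (P1 (P4 (P1 p)))))
noncomputable def R26 (p : Nat) : Nat := P0 (P0 (P5 (P1 (P5 (P1 p)))))
noncomputable def R27 (p : Nat) : Nat := P0 (P0 (P6 (P1 (P6 (P1 p)))))
noncomputable def R28 (p : Nat) : Nat := P0 (P0 (P7 (P1 (P7 (P1 p)))))
noncomputable def R29 (p : Nat) : Nat := P3 (P2 (P3 (P2 (P3 (P2 p)))))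
noncomputable def R30 (p : Nat) : Nat := P0 (P0 (P4 (P2 (P4 (P2 p)))))
noncomputable def R31 (p : Nat) : Nat := P0 (P0 (P5 (P2 (P5 (P2 p)))))
noncomputable def R32 (p : Nat) : Nat := P6 (P2 (P6 (P2 (P6 (P2 p)))))
noncomputable def R33 (p : Nat) : Nat := P0 (P0 (P7 (P2 (P7 (P2 p)))))
noncomputable def R34 (p : Nat) : Nat := P4 (P3 (P4 (P3 (P4 (P3 p)))))
noncomputable def R35 (p : Nat) : Nat := P0 (P0 (P5 (P3 (P5 (P3 p)))))
noncomputable def R36 (p : Nat) : Nat := P0 (P0 (P6 (P3 (P6 (P3 p)))))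
noncomputable def R37 (p : Nat) : Nat := P0 (P0 (P7 (P3 (P7 (P3 p)))))
noncomputable def R38 (p : Nat) : Nat := P5 (P4 (P5 (P4 (P5 (P4 p)))))
noncomputable def R39 (p : Nat) : Nat := P0 (P0 (P6 (P4 (P6 (P4 p)))))
noncomputable def R40 (p : Nat) : Nat := P0 (P0 (P7 (P4 (P7 (P4 p)))))
noncomputable def R41 (p : Nat) : Nat := P0 (P0 (P6 (P5 (P6 (P5 p)))))
noncomputable def R42 (p : Nat) : Nat := P0 (P0 (P7 (P5 (P7 (P5 p)))))
noncomputable def R43 (p : Nat) : Nat := P7 (P6 (P7 (P6 (P7 (P6 p)))))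
noncomputable def R44 (p : Nat) : Nat := P0 (P0 (P7 (P6 (P2 (P4 (P3 (P2 (P0 (P1 (P2 (P7 (P6 (P2 (P4 (P3 (P2 (P0 (P1 (P2 (P7 (P6 (P2 (P4 (P3 (P2 (P0 (P1 (P2 (P7 (P6 (P2 (P4 (P3 (P2 (P0 (P1 (P2 (P7 (P6 (P2 (P4 (P3 (P2 (P0 (P1 (P2 (P7 (P6 (P2 (P4 (P3 (P2 (P0 (P1 (P2 (P7 (P6 (P2 (P4 (P3 (P2 (P0 (P1 (P2 (P7 (P6 (P2 (P4 (P3 (P2 (P0 (P1 (P2 (P7 (P6 (P2 (P4 (P3 (P2 (P0 (P1 (P2 (P7 (P6 (P2 (P4 (P3 (P2 (P0 (P1 (P2 p)))))))))))))))))))))))))))))))))))))))))))))))))))))))))))))))))))))))))))))))))))))))))))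
noncomputable def R45 (p : Nat) : Nat := P6 (P5 (P4 (P3 (P2 (P1 (P0 (P6 (P5 (P4 (P3 (P2 (P1 (P0 (P6 (P5 (P4 (P3 (P2 (P1 (P0 (P6 (P5 (P4 (P3 (P2 (P1 (P0 (P6 (P5 (P4 (P3 (P2 (P1 (P0 (P6 (P5 (P4 (P3 (P2 (P1 (P0 (P6 (P5 (P4 (P3 (P2 (P1 (P0 (P6 (P5 (P4 (P3 (P2 (P1 (P0 (P6 (P5 (P4 (P3 (P2 (P1 (P0 p))))))))))))))))))))))))))))))))))))))))))))))))))))))))))))))
noncomputable def R46 (p : Nat) : Nat := P8 (P8 (P9 (P0 (P0 (P1 p)))))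
noncomputable def R47 (p : Nat) : Nat := P8 (P8 (P10 (P0 (P0 (P2 p)))))
noncomputable def R48 (p : Nat) : Nat := P8 (P8 (P11 (P0 (P0 (P3 p)))))
noncomputable def R49 (p : Nat) : Nat := P8 (P8 (P12 (P0 (P0 (P4 p)))))
noncomputable def R50 (p : Nat) : Nat := P8 (P8 (P13 (P0 (P0 (P5 p)))))
noncomputable def R51 (p : Nat) : Nat := P8 (P8 (P14 (P0 (P0 (P6 p)))))
noncomputable def R52 (p : Nat) : Nat := P8 (P8 (P15 (P0 (P0 (P7 p)))))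
end Cfsg.Agent.Lib.Helper6.TCD.O732a
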