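import Cfsg.Agent.Lib.Helper6.TC11
import Cfsg.Agent.Lib.Helper6.TCD.O732a.Par
set_option autoImplicit false
set_option maxRecDepth 1000000
set_option Elab.async false
open Cfsg.Agent.Lib.Helper6.TC
namespace Cfsg.Agent.Lib.Helper6.TCD.O732a
theorem chkR8_0 : chkFix R8 0 2240 = true := by decide +kernel
theorem chkR9_0 : chkFix R9 0 2240 = true := by decide +kernel
theorem chkR10_0 : chkFix R10 0 2240 = true := by decide +kernel
theorem chkR11_0 : chkFix R11 0 2240 = true := by decide +kernel
theorem chkR12_0 : chkFix R12 0 2240 = true := by decide +kernel
theorem chkR13_0 : chkFix R13 0 2240 = true := by decide +kernel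
theorem chkR14_0 : chkFix R14 0 2240 = true := by decide +kernel
theorem chkR15_0 : chkFix R15 0 2240 = true := by decide +kernel
theorem chkR16_0 : chkFix R16 0 2240 = true := by decide +kernel
theorem chkR17_0 : chkFix R17 0 2240 = true := by decide +kernel
theorem chkR18_0 : chkFix R18 0 2240 = true := by decide +kernel
theorem chkR19_0 : chkFix R19 0 2240 = true := by decide +kernel
theorem chkR20_0 : chkFix R20 0 2240 = true := by decide +kernel
theorem chkR21_0 : chkFix R21 0 2240 = true := by decide +kernel
theorem chkR22_0 : chkFix R22 0 2240 = true := by decide +kernel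
theorem chkR23_0 : chkFix R23 0 2240 = true := by decide +kernel
theorem chkR24_0 : chkFix R24 0 2240 = true := by decide +kernel
theorem chkR25_0 : chkFix R25 0 2240 = true := by decide +kernel
theorem chkR26_0 : chkFix R26 0 2240 = true := by decide +kernel
theorem chkR27_0 : chkFix R27 0 2240 = true := by decide +kernel
theorem chkR28_0 : chkFix R28 0 2240 = true := by decide +kernel
theorem chkR29_0 : chkFix R29 0 2240 = true := by decide +kernel
theorem chkR30_0 : chkFix R30 0 2240 = true := by decide +kernel
theorem chkR31_0 : chkFix R31 0 2240 = true := by decide +kernel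
theorem chkR32_0 : chkFix R32 0 2240 = true := by decide +kernel
theorem chkR33_0 : chkFix R33 0 2240 = true := by decide +kernel
theorem chkR34_0 : chkFix R34 0 2240 = true := by decide +kernel
theorem chkR35_0 : chkFix R35 0 2240 = true := by decide +kernel
theorem chkR36_0 : chkFix R36 0 2240 = true := by decide +kernel
theorem chkR37_0 : chkFix R37 0 2240 = true := by decide +kernel
theorem chkR38_0 : chkFix R38 0 2240 = true := by decide +kernel
theorem chkR39_0 : chkFix R39 0 2240 = true := by decide +kernel
theorem chkR40_0 : chkFix R40 0 2240 = true := by decide +kernel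
theorem chkR41_0 : chkFix R41 0 2240 = true := by decide +kernel
theorem chkR42_0 : chkFix R42 0 2240 = true := by decide +kernel
theorem chkR43_0 : chkFix R43 0 2240 = true := by decide +kernel
theorem chkR44_0 : chkFix R44 0 2240 = true := by decide +kernel
theorem chkR45_0 : chkFix R45 0 2240 = true := by decide +kernel
theorem chkR46_0 : chkFix R46 0 2240 = true := by decide +kernel
theorem chkR47_0 : chkFix R47 0 2240 = true := by decide +kernel
theorem chkR48_0 : chkFix R48 0 2240 = true := by decide +kernel
theorem chkR49_0 : chkFix R49 0 2240 = true := by decide +kernel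
theorem chkR50_0 : chkFix R50 0 2240 = true := by decide +kernel
theorem chkR51_0 : chkFix R51 0 2240 = true := by decide +kernel
theorem chkR52_0 : chkFix R52 0 2240 = true := by decide +kernel
end Cfsg.Agent.Lib.Helper6.TCD.O732a
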