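import Cfsg.Agent.Lib.Helper6.TC11
import Cfsg.Agent.Lib.Helper6.TCD.O732a.Par
set_option autoImplicit false
set_option maxRecDepth 1000000
set_option Elab.async false
open Cfsg.Agent.Lib.Helper6.TC
namespace Cfsg.Agent.Lib.Helper6.TCD.O732a
theorem chkP0 : chkCol P0 P8 2240 = true := by decide +kernel
theorem chkP1 : chkCol P1 P9 2240 = true := by decide +kernel
theorem chkP2 : chkCol P2 P10 2240 = true := by decide +kernel
theorem chkP3 : chkCol P3 P11 2240 = true := by decide +kernel
theorem chkP4 : chkCol P4 P12 2240 = true := by decide +kernel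
theorem chkP5 : chkCol P5 P13 2240 = true := by decide +kernel
theorem chkP6 : chkCol P6 P14 2240 = true := by decide +kernel
theorem chkP7 : chkCol P7 P15 2240 = true := by decide +kernel
theorem chkP8 : chkCol P8 P0 2240 = true := by decide +kernel
theorem chkP9 : chkCol P9 P1 2240 = true := by decide +kernel
theorem chkP10 : chkCol P10 P2 2240 = true := by decide +kernel
theorem chkP11 : chkCol P11 P3 2240 = true := by decide +kernel
theorem chkP12 : chkCol P12 P4 2240 = true := by decide +kernel
theorem chkP13 : chkCol P13 P5 2240 = true := by decide +kernel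
theorem chkP14 : chkCol P14 P6 2240 = true := by decide +kernel
theorem chkP15 : chkCol P15 P7 2240 = true := by decide +kernel
end Cfsg.Agent.Lib.Helper6.TCD.O732a
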